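import Groth.Agent.SplitHom.Props
import Groth.Agent.MonoFibre.MultType

/-!
The power maps of a group of multiplicative type and of finite type are finite.
-/

set_option autoImplicit false
set_option backward.isDefEq.respectTransparency false
set_option backward.isDefEq.respectTransparency.types false
set_option linter.unusedSectionVars false
set_option linter.style.haveILetI false
set_option maxHeartbeats 1000000

universe u

open CategoryTheory CategoryTheory.Limits MonoidalCategory CartesianMonoidalCategory MonObj AlgebraicGeometry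

noncomputable section

namespace Groth.Agent.MultExtSch

open FixedSmooth HomTriv

theorem finite_mapDomain_pow (A : CommRingCat.{u}) (M : Type) [AddCommGroup M] [AddGroup.FG M] (n : ℕ) (hn : 0 < n) :
    IsFinite (Spec.map (CommRingCat.ofHom
      (MonoidAlgebra.mapDomainRingHom A (powMonoidHom n : Multiplicative M →* Multiplicative M)))) := by
  rw [IsFinite.SpecMap_iff]
  set f := MonoidAlgebra.mapDomainRingHom (A : Type u) (powMonoidHom n : Multiplicative M →* Multiplicative M)
  show f.Finite
  have hsingle : ∀ a : A, MonoidAlgebra.singleOneRingHom (R := A) (M := Multiplicative M) a =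
      f (MonoidAlgebra.singleOneRingHom a) := fun a => by simp [f]
  have hft : f.FiniteType := by
    refine RingHom.FiniteType.of_comp_finiteType (f := (MonoidAlgebra.singleOneRingHom : A →+* MonoidAlgebra A (Multiplicative M))) ?_
    rw [show f.comp MonoidAlgebra.singleOneRingHom = MonoidAlgebra.singleOneRingHom from RingHom.ext fun a => (hsingle a).symm]
    exact RingHom.finiteType_algebraMap.2 (inferInstance : Algebra.FiniteType A (MonoidAlgebra A (Multiplicative M)))
  refine RingHom.finite_iff_isIntegral_and_finiteType.2 ⟨fun x => ?_, hft⟩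
  induction x using MonoidAlgebra.induction_linear with
  | zero => exact RingHom.isIntegralElem_zero _
  | add x y hx hy => exact RingHom.IsIntegralElem.add _ hx hy
  | single m a =>
    rw [show (MonoidAlgebra.single m a : MonoidAlgebra A (Multiplicative M)) =
      f (MonoidAlgebra.singleOneRingHom a) * MonoidAlgebra.of A _ m by simp [f]]
    refine RingHom.IsIntegralElem.mul _ (RingHom.isIntegralElem_map _) ?_
    refine ⟨Polynomial.X ^ n - Polynomial.C (MonoidAlgebra.of A _ m), Polynomial.monic_X_pow_sub_C _ hn.ne', ?_⟩
    rw [Polynomial.eval₂_sub, Polynomial.eval₂_X_pow, Polynomial.eval₂_C, sub_eq_zero, ← map_pow]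
    simp [f]

variable {S : Scheme.{u}}

/-- In a chart the power map is a map of monoid algebras. -/
theorem finite_pow_chart {K : Over S} [GrpObj K] [IsCommMonObj K] [IsAffineHom K.hom] {B : CommRingCat.{u}}
    {t : Spec B ⟶ S} {M : Type} [AddCommGroup M] [AddGroup.FG M] (σ : Split K t M) (n : ℕ) (hn : 0 < n) :
    IsFinite ((Over.pullback t).map (𝟙 K ^ n)).left := by
  let φ : Multiplicative M →* Multiplicative M := powMonoidHom n
  let m := Spec.map (CommRingCat.ofHom (MonoidAlgebra.mapDomainRingHom B φ))
  have h : (univ σ).left ≫ (𝟙 K ^ n : K ⟶ K).left = m ≫ (univ σ).left := by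
    have h1 : univ σ ≫ (𝟙 K ^ n) = σ.pt (GA B M) (Spec.map (gc B M)) ((MonoidAlgebra.of B (Multiplicative M)) ^ n) := by
      rw [MonObj.comp_pow, Category.comp_id]
      exact (map_pow _ _ _).symm
    rw [← Over.comp_left, h1, pt_left]
    congr 2
    refine CommRingCat.hom_ext (MonoidAlgebra.ringHom_ext (fun b => ?_) fun x => ?_)
    · simp [φ, FixedSmooth.L]
    · simp [φ, FixedSmooth.L]
  let e := (SplitHom.isPullback_univ σ).isoPullback
  have hw : e.hom ≫ ((Over.pullback t).map (𝟙 K ^ n)).left = m ≫ e.hom := by
    apply pullback.hom_ext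
    · rw [Category.assoc, Category.assoc, (SplitHom.isPullback_univ σ).isoPullback_hom_fst,
        ← (isPullback_bc t (𝟙 K ^ n)).w, (SplitHom.isPullback_univ σ).isoPullback_hom_fst_assoc, h]
    · have e1 : ((Over.pullback t).map (𝟙 K ^ n)).left ≫ pullback.snd K.hom t = pullback.snd K.hom t :=
        pullback.lift_snd _ _ _
      rw [Category.assoc, Category.assoc, (SplitHom.isPullback_univ σ).isoPullback_hom_snd, e1,
        (SplitHom.isPullback_univ σ).isoPullback_hom_snd, ← Spec.map_comp]
      congr 1
      exact CommRingCat.hom_ext (RingHom.ext fun c => by simp [φ, MonoidAlgebra.mapDomainRingHom])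
  rw [← MorphismProperty.cancel_left_of_respectsIso @IsFinite e.hom, hw,
    MorphismProperty.cancel_right_of_respectsIso @IsFinite]
  exact finite_mapDomain_pow B M n hn

/-- The power maps of a group of multiplicative type and of finite type are finite. -/
theorem isFinite_pow {K : Over S} [GrpObj K] [IsCommMonObj K] (hK : SGA3x.IsMultTypeFT K) (n : ℕ) (hn : 0 < n) :
    IsFinite (𝟙 K ^ n : K ⟶ K).left := by
  haveI : IsAffineHom K.hom := isAffineHom_of_isMultTypeLoc (WeilClosedLib.IsMultTypeLoc.of_isMultTypeFT hK)
  haveI := FpqcDesc.isFinite_descends.{u}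
  let v : K ⟶ K := 𝟙 K ^ n
  have hall : IsFinite ((Over.pullback (𝟙 S)).map v).left := by
    refine SplitHom.of_cover @IsFinite v S.affineCover fun i => ?_
    let a : S.affineCover.X i ⟶ S := S.affineCover.f i ≫ 𝟙 S
    let V : S.Opens := a.opensRange
    have hV : IsAffineOpen V := isAffineOpen_opensRange a
    refine SplitHom.of_base @IsFinite v a.isoOpensRange.hom (Scheme.Hom.isoOpensRange_hom_ι a) ?_
    obtain ⟨κ, _, B, g, hfl, hsur, hsp⟩ := (hasSplitCoversFG_of_isMultTypeFT hK).exists_over V hV
    haveI : IsAffine V.toScheme := hV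
    haveI : IsAffine (∐ fun i => Spec (B i)) := inferInstance
    haveI : Flat (Sigma.desc g) := by
      haveI : IsZariskiLocalAtSource (@Flat.{u}) :=
        HasRingHomProperty.instIsZariskiLocalAtSource.{u} (Q := RingHom.Flat)
      exact IsZariskiLocalAtSource.sigmaDesc hfl
    haveI : Surjective (Sigma.desc g) := ⟨fun z => by
      obtain ⟨i, a, ha⟩ := hsur z
      exact ⟨Sigma.ι (fun i => Spec (B i)) i a, by erw [← Scheme.Hom.comp_apply, Sigma.ι_desc]; exact ha⟩⟩
    refine SplitHom.of_fpqc @IsFinite v (Sigma.desc g) rfl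
      (SplitHom.of_cover @IsFinite v (sigmaOpenCover fun i => Spec (B i)) fun l => ?_)
    obtain ⟨M, _, hM, ⟨σ⟩⟩ := hsp l
    haveI := hM
    have e : (sigmaOpenCover fun i => Spec (B i)).f l ≫ Sigma.desc g ≫ V.ι = g l ≫ V.ι := by
      erw [← Category.assoc, Sigma.ι_desc]
    rw [e]
    exact finite_pow_chart σ n hn
  have hb := isPullback_bc (𝟙 S) v
  haveI : IsIso (pullback.fst K.hom (𝟙 S)) := inferInstance
  rw [← MorphismProperty.cancel_left_of_respectsIso @IsFinite (pullback.fst K.hom (𝟙 S)), hb.w,
    MorphismProperty.cancel_right_of_respectsIso @IsFinite]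
  exact hall

end Groth.Agent.MultExtSch
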