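import Groth.Agent.MultExtSchLib.PowFinite
import Groth.Agent.CommGrpAbLib.Basic
import Groth.Agent.FpqcDesc.Basic
import Groth.Agent.MultExtCentralLib.Desc

/-!
Properties of an extension inherited from the kernel and the quotient.
-/

set_option autoImplicit false
set_option backward.isDefEq.respectTransparency false
set_option backward.isDefEq.respectTransparency.types false
set_option linter.unusedSectionVars false
set_option linter.style.haveILetI false
set_option maxHeartbeats 1000000
set_option synthInstance.maxHeartbeats 400000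

universe u

open CategoryTheory CategoryTheory.Limits MonoidalCategory CartesianMonoidalCategory MonObj GrpObj AlgebraicGeometry

noncomputable section

namespace Groth.Agent.MultExtSch

variable {S : Scheme.{u}}

/-- A cartesian square over the base is cartesian on total spaces. -/
theorem isPullback_left {P X Y Z : Over S} {f : P ⟶ X} {g : P ⟶ Y} {a : X ⟶ Z} {b : Y ⟶ Z}
    (h : IsPullback f g a b) : IsPullback f.left g.left a.left b.left :=
  h.map (Over.forget S)

/-- A square is cartesian if compatible pairs of points come from unique points. -/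
theorem isPullback_of_points {P X Y Z : Over S} {f : P ⟶ X} {g : P ⟶ Y} {a : X ⟶ Z} {b : Y ⟶ Z}
    (w : f ≫ a = g ≫ b)
    (hex : ∀ (T : Over S) (x : T ⟶ X) (y : T ⟶ Y), x ≫ a = y ≫ b → ∃ z, z ≫ f = x ∧ z ≫ g = y)
    (huniq : ∀ (T : Over S) (z z' : T ⟶ P), z ≫ f = z' ≫ f → z ≫ g = z' ≫ g → z = z') : IsPullback f g a b := by
  have hex' : ∀ c : PullbackCone a b, ∃ z : c.pt ⟶ P, z ≫ f = c.fst ∧ z ≫ g = c.snd := fun c =>
    hex c.pt c.fst c.snd c.condition
  exact ⟨⟨w⟩, ⟨PullbackCone.IsLimit.mk w (fun c => (hex' c).choose) (fun c => (hex' c).choose_spec.1)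
    (fun c => (hex' c).choose_spec.2)
    (fun c m h1 h2 => huniq c.pt m _ (h1.trans (hex' c).choose_spec.1.symm) (h2.trans (hex' c).choose_spec.2.symm))⟩⟩

variable {E H K : Over S} [GrpObj E] [GrpObj H] [GrpObj K] (p : E ⟶ K) [IsMonHom p] (i : H ⟶ E) [IsMonHom i]
  (hker : AlgGrp.IsKernel i p)

include hker

theorem comp_p {T : Over S} (h : T ⟶ H) : (h ≫ i) ≫ p = 1 := by
  rw [Category.assoc, hker.w, ← Category.assoc, toUnit_unique (h ≫ toUnit H) (toUnit T)]
  rfl

theorem mono_kernel : Mono i := ⟨fun _ _ e => hker.hom_ext e (toUnit_unique _ _)⟩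

/-- The quotient map pulls back along itself to the projection from the product with the kernel. -/
theorem isPullback_self : IsPullback ((fst E H) * (snd E H ≫ i)) (fst E H) p p := by
  haveI := mono_kernel p i hker
  refine isPullback_of_points ?_ (fun T x y e => ?_) (fun T z z' e1 e2 => ?_)
  · rw [MonObj.mul_comp, comp_p p i hker, _root_.mul_one]
  · obtain ⟨l, hl⟩ := CommGrpAbLib.exists_kernel_lift i p hker (y⁻¹ * x) (by
      rw [MonObj.mul_comp, GrpObj.inv_comp, e, inv_mul_cancel])
    exact ⟨lift y l, by rw [MonObj.comp_mul, lift_fst, lift_snd_assoc, hl, mul_inv_cancel_left], lift_fst _ _⟩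
  · apply CartesianMonoidalCategory.hom_ext
    · exact e2
    · rw [← cancel_mono i]
      rw [MonObj.comp_mul, MonObj.comp_mul, e2, ← Category.assoc, ← Category.assoc] at e1
      exact mul_left_cancel e1

theorem isAffineHom_p [Surjective p.left] [Flat p.left] [QuasiCompact p.left] [IsAffineHom H.hom] : IsAffineHom p.left := by
  haveI := FpqcDesc.isAffineHom_descends.{u}
  exact MorphismProperty.of_isPullback_of_descendsAlong (Q := @Surjective ⊓ @Flat ⊓ @QuasiCompact)
    (isPullback_left (isPullback_self p i hker)).flip ⟨⟨inferInstance, inferInstance⟩, inferInstance⟩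
    (MorphismProperty.pullback_fst E.hom H.hom inferInstance)

theorem lfp_p [Surjective p.left] [Flat p.left] [QuasiCompact p.left] [LocallyOfFinitePresentation H.hom] :
    LocallyOfFinitePresentation p.left :=
  MorphismProperty.of_isPullback_of_descendsAlong (Q := @Surjective ⊓ @Flat ⊓ @QuasiCompact)
    (isPullback_left (isPullback_self p i hker)).flip ⟨⟨inferInstance, inferInstance⟩, inferInstance⟩
    (MorphismProperty.pullback_fst E.hom H.hom inferInstance)

/-- The power maps of a commutative extension are finite when those of the kernel and of the quotient are. -/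
theorem isFinite_pow_ext [IsCommMonObj E] [Surjective p.left] [Flat p.left] [QuasiCompact p.left] (n : ℕ)
    [IsFinite (𝟙 H ^ n : H ⟶ H).left] [IsFinite (𝟙 K ^ n : K ⟶ K).left] : IsFinite (𝟙 E ^ n : E ⟶ E).left := by
  haveI := mono_kernel p i hker
  have hE : ∀ {T : Over S} (a b : T ⟶ E), a * b = b * a := fun a b => _root_.mul_comm a b
  let a : K ⟶ K := 𝟙 K ^ n
  have ha : ∀ {T : Over S} (y : T ⟶ K), y ≫ a = y ^ n := fun y => by rw [MonObj.comp_pow, Category.comp_id]
  have hah : ∀ {T : Over S} (y : T ⟶ H), y ≫ (𝟙 H ^ n : H ⟶ H) = y ^ n := fun y => by rw [MonObj.comp_pow, Category.comp_id]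
  have hpow : ∀ {T : Over S} (x : T ⟶ E) (y : T ⟶ H), (x * (y ≫ i)) ^ n = x ^ n * ((y ^ n) ≫ i) := fun x y => by
    rw [(show Commute x (y ≫ i) from hE _ _).mul_pow, MonObj.pow_comp]
  let φ : E ⟶ pullback a p := pullback.lift p (𝟙 E ^ n) (by rw [ha, MonObj.pow_comp, Category.id_comp])
  let w : E ⊗ H ⟶ E := (fst E H ^ n) * (snd E H ≫ i)
  let π : E ⊗ H ⟶ pullback a p := pullback.lift (fst E H ≫ p) w (by
    rw [ha, ← MonObj.pow_comp, MonObj.mul_comp, comp_p p i hker, _root_.mul_one])
  have hfst : ∀ {T : Over S} (z : T ⟶ E ⊗ H), (z ≫ π) ≫ pullback.fst a p = z ≫ fst E H ≫ p := fun z => by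
    rw [Category.assoc, pullback.lift_fst]
  have hsnd : ∀ {T : Over S} (z : T ⟶ E ⊗ H),
      (z ≫ π) ≫ pullback.snd a p = (z ≫ fst E H) ^ n * ((z ≫ snd E H) ≫ i) := fun z => by
    rw [Category.assoc, pullback.lift_snd, MonObj.comp_mul, MonObj.comp_pow, Category.assoc]
  have h1 : IsPullback π (fst E H) (pullback.fst a p) p := by
    refine isPullback_of_points (pullback.lift_fst _ _ _) (fun T q e he => ?_) (fun T z z' e1 e2 => ?_)
    · obtain ⟨l, hl⟩ := CommGrpAbLib.exists_kernel_lift i p hker ((e ^ n)⁻¹ * (q ≫ pullback.snd a p)) (by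
        rw [MonObj.mul_comp, GrpObj.inv_comp, MonObj.pow_comp, Category.assoc, ← pullback.condition,
          ← Category.assoc, he, ha, inv_mul_cancel])
      refine ⟨lift e l, pullback.hom_ext ?_ ?_, lift_fst _ _⟩
      · rw [hfst, lift_fst_assoc, he]
      · rw [hsnd, lift_fst, lift_snd, hl, mul_inv_cancel_left]
    · apply CartesianMonoidalCategory.hom_ext
      · exact e2
      · have e3 := congrArg (· ≫ pullback.snd a p) e1
        simp only [hsnd, e2] at e3
        rw [← cancel_mono i]
        exact mul_left_cancel e3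
  haveI : Surjective π.left := MorphismProperty.of_isPullback (isPullback_left h1).flip ‹Surjective p.left›
  haveI : Flat π.left := MorphismProperty.of_isPullback (isPullback_left h1).flip ‹Flat p.left›
  haveI : QuasiCompact π.left := MorphismProperty.of_isPullback (isPullback_left h1).flip ‹QuasiCompact p.left›
  let nH : E ⊗ H ⟶ E ⊗ H := lift (fst E H) (snd E H ≫ (𝟙 H ^ n))
  have h2 : IsPullback (snd E H) nH (𝟙 H ^ n) (snd E H) := by
    refine isPullback_of_points (lift_snd _ _).symm (fun T x y e => ?_) (fun T z z' e1 e2 => ?_)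
    · refine ⟨lift (y ≫ fst E H) x, lift_snd _ _, ?_⟩
      apply CartesianMonoidalCategory.hom_ext
      · rw [Category.assoc, lift_fst, lift_fst]
      · rw [Category.assoc, lift_snd, lift_snd_assoc, e]
    · apply CartesianMonoidalCategory.hom_ext
      · have := congrArg (· ≫ fst E H) e2
        simpa [nH] using this
      · exact e1
  haveI : IsFinite nH.left := MorphismProperty.of_isPullback (isPullback_left h2) ‹IsFinite (𝟙 H ^ n : H ⟶ H).left›
  have hn : ∀ {T : Over S} (z : T ⟶ E ⊗ H), z ≫ nH = lift (z ≫ fst E H) ((z ≫ snd E H) ^ n) := fun z => by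
    rw [comp_lift, ← Category.assoc, hah]
  let m : E ⊗ H ⟶ E := (fst E H) * (snd E H ≫ i)
  have hm : ∀ {T : Over S} (z : T ⟶ E ⊗ H), z ≫ m = (z ≫ fst E H) * ((z ≫ snd E H) ≫ i) := fun z => by
    rw [MonObj.comp_mul, Category.assoc]
  have hφ1 : ∀ {T : Over S} (x : T ⟶ E), (x ≫ φ) ≫ pullback.fst a p = x ≫ p := fun x => by
    rw [Category.assoc, pullback.lift_fst]
  have hφ2 : ∀ {T : Over S} (x : T ⟶ E), (x ≫ φ) ≫ pullback.snd a p = x ^ n := fun x => by
    rw [Category.assoc, pullback.lift_snd, MonObj.comp_pow, Category.comp_id]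
  have h3 : IsPullback m nH φ π := by
    refine isPullback_of_points ?_ (fun T x z e => ?_) (fun T z z' e1 e2 => ?_)
    · apply pullback.hom_ext
      · rw [hφ1, hfst, MonObj.mul_comp, comp_p p i hker, _root_.mul_one, ← Category.assoc, lift_fst]
      · rw [hφ2, hsnd, hpow, lift_fst, lift_snd, hah]
    · have e1 := congrArg (· ≫ pullback.fst a p) e
      have e2 := congrArg (· ≫ pullback.snd a p) e
      simp only [hφ1, hfst] at e1
      simp only [hφ2, hsnd] at e2
      obtain ⟨l, hl⟩ := CommGrpAbLib.exists_kernel_lift i p hker ((z ≫ fst E H)⁻¹ * x) (by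
        rw [MonObj.mul_comp, GrpObj.inv_comp, e1, Category.assoc, inv_mul_cancel])
      have hl' : (z ≫ fst E H) * (l ≫ i) = x := by rw [hl, mul_inv_cancel_left]
      refine ⟨lift (z ≫ fst E H) l, by rw [hm, lift_fst, lift_snd, hl'], ?_⟩
      rw [hn, lift_fst, lift_snd]
      apply CartesianMonoidalCategory.hom_ext
      · rw [lift_fst]
      · rw [lift_snd, ← cancel_mono i]
        rw [← hl', hpow] at e2
        exact mul_left_cancel e2
    · have e3 := congrArg (· ≫ fst E H) e2
      simp only [hn, lift_fst] at e3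
      rw [hm, hm, e3] at e1
      apply CartesianMonoidalCategory.hom_ext
      · exact e3
      · rw [← cancel_mono i]
        exact mul_left_cancel e1
  haveI := FpqcDesc.isFinite_descends.{u}
  haveI : IsFinite φ.left := MorphismProperty.of_isPullback_of_descendsAlong
    (Q := @Surjective ⊓ @Flat ⊓ @QuasiCompact) (isPullback_left h3).flip
    ⟨⟨inferInstance, inferInstance⟩, inferInstance⟩ ‹IsFinite nH.left›
  haveI : IsFinite (pullback.snd a p).left :=
    MorphismProperty.of_isPullback (isPullback_left (IsPullback.of_hasPullback a p)) ‹IsFinite (𝟙 K ^ n : K ⟶ K).left›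
  rw [show (𝟙 E ^ n : E ⟶ E) = φ ≫ pullback.snd a p from (pullback.lift_snd _ _ _).symm, Over.comp_left]
  infer_instance

end Groth.Agent.MultExtSch
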